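import Mathlib

/-!
A basis of the fibre of a graded projective module gives a basis after a homogeneous localisation.
-/

set_option autoImplicit false
universe u v w x

namespace GrBasis52

open DirectSum

variable {k : Type u} [Field k] {M : Type v} [AddCommGroup M] [DecidableEq M]
  {A : Type w} [CommRing A] [Algebra k A] (𝒜 : M → Submodule k A) [GradedAlgebra 𝒜]
  {P : Type x} [AddCommGroup P] [Module A P] [Module k P]
  (ℳ : M → Submodule k P) [Decomposition ℳ] [SetLike.GradedSMul 𝒜 ℳ]

theorem decompose_smul (a : A) {p : P} {d : M} (hp : p ∈ ℳ d) (e : M) :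
    (decompose ℳ (a • p) (e + d) : P) = (decompose 𝒜 a e : A) • p := by
  induction a using DirectSum.Decomposition.inductionOn 𝒜 with
  | zero => simp
  | @homogeneous i a =>
    have hmem : (a : A) • p ∈ ℳ (i + d) := SetLike.GradedSMul.smul_mem a.2 hp
    rcases eq_or_ne i e with rfl | h
    · rw [decompose_of_mem_same ℳ hmem, decompose_of_mem_same 𝒜 a.2]
    · rw [decompose_of_mem_ne ℳ hmem (fun h' => h (add_right_cancel h')),
        decompose_of_mem_ne 𝒜 a.2 h, zero_smul]
  | add a b ha hb =>
    rw [add_smul, decompose_add, decompose_add, DirectSum.add_apply, DirectSum.add_apply,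
      Submodule.coe_add, Submodule.coe_add, ha, hb, add_smul]

include 𝒜 in
theorem component_mem_span {n : ℕ} (wt : Fin n → M) (f : Fin n → P) (hf : ∀ i, f i ∈ ℳ (wt i))
    {q : P} (hq : q ∈ Submodule.span A (Set.range f)) (d : M) :
    (decompose ℳ q d : P) ∈ Submodule.span A (Set.range f) := by
  obtain ⟨c, rfl⟩ := Submodule.mem_span_range_iff_exists_fun A |>.1 hq
  rw [decompose_sum, DFinsupp.finsetSum_apply, AddSubmonoidClass.coe_finsetSum]
  refine sum_mem fun i _ => ?_
  rw [show d = (d - wt i) + wt i from (sub_add_cancel d (wt i)).symm, decompose_smul 𝒜 ℳ _ (hf i)]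
  exact Submodule.smul_mem _ _ (Submodule.subset_span ⟨i, rfl⟩)

theorem exists_basis [Module.Finite A P] [Module.Projective A P] (m : Ideal A) [m.IsMaximal]
    {n : ℕ} (wt : Fin n → M) (f : Fin n → P) (hf : ∀ i, f i ∈ ℳ (wt i))
    (hli : LinearIndependent (A ⧸ m)
      (fun i => (Submodule.Quotient.mk (f i) : P ⧸ (m • (⊤ : Submodule A P)))))
    (hsp : Submodule.span A (Set.range f) ⊔ m • (⊤ : Submodule A P) = ⊤) :
    ∃ s : A, SetLike.IsHomogeneousElem 𝒜 s ∧ s ∉ m ∧
      (∀ p : P, ∃ (N : ℕ) (c : Fin n → A), s ^ N • p = ∑ i, c i • f i) ∧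
      (∀ c : Fin n → A, ∑ i, c i • f i = 0 → ∃ N : ℕ, ∀ i, s ^ N * c i = 0) := by
  classical
  set R := Submodule.span A (Set.range f) with hR
  let F : (Fin n → A) →ₗ[A] P := Fintype.linearCombination A f
  have hFr : LinearMap.range F = R := Fintype.range_linearCombination A f
  -- an element outside `m` moving `P` into the span
  obtain ⟨s₁, hs₁, hs₁'⟩ : ∃ s : A, s ∉ m ∧ ∀ p : P, s • p ∈ R := by
    have hfg : (⊤ : Submodule A (P ⧸ R)).FG := Module.Finite.fg_top
    have hle : (⊤ : Submodule A (P ⧸ R)) ≤ m • ⊤ := by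
      calc (⊤ : Submodule A (P ⧸ R)) = Submodule.map R.mkQ (R ⊔ m • ⊤) := by
            rw [hsp, Submodule.map_top, Submodule.range_mkQ]
        _ ≤ m • ⊤ := by
            rw [Submodule.map_sup, Submodule.mkQ_map_self, bot_sup_eq, Submodule.map_smul'', Submodule.map_top,
              Submodule.range_mkQ]
    obtain ⟨r, hr, hr'⟩ := Submodule.exists_sub_one_mem_and_smul_eq_zero_of_fg_of_le_smul m _ hfg hle
    refine ⟨r, fun h => ?_, fun p => ?_⟩
    · exact Ideal.IsMaximal.ne_top ‹_› (m.eq_top_iff_one.2 (by simpa using m.sub_mem h hr))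
    · rw [← Submodule.Quotient.mk_eq_zero, Submodule.Quotient.mk_smul]
      exact hr' _ Submodule.mem_top
  -- lift multiplication by `s₁`
  let g : P →ₗ[A] LinearMap.range F := LinearMap.codRestrict _ (s₁ • LinearMap.id) fun p => hFr ▸ hs₁' p
  obtain ⟨σ, hσ⟩ := Module.projective_lifting_property F.rangeRestrict g F.surjective_rangeRestrict
  have hσ' : ∀ p, F (σ p) = s₁ • p := fun p => congrArg Subtype.val (LinearMap.congr_fun hσ p)
  set N : Matrix (Fin n) (Fin n) A := LinearMap.toMatrix' (σ ∘ₗ F) with hN
  have hdetker : ∀ c, F c = 0 → N.det • c = 0 := by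
    intro c hc
    have h1 : N.mulVec c = 0 := by
      rw [hN, LinearMap.toMatrix'_mulVec, LinearMap.comp_apply, hc, map_zero]
    have h2 := congrArg (N.adjugate.mulVec) h1
    rw [Matrix.mulVec_mulVec, Matrix.adjugate_mul, Matrix.mulVec_zero, Matrix.smul_mulVec, Matrix.one_mulVec] at h2
    exact h2
  have hdet : N.det ∉ m := by
    have key : ∀ i j, Ideal.Quotient.mk m (N i j) = if i = j then Ideal.Quotient.mk m s₁ else 0 := by
      intro i j
      have h1 : ∑ l, (N l j - if l = j then s₁ else 0) • f l = 0 := by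
        have h2 := hσ' (F (Pi.single j 1))
        have h3 : F (Pi.single j 1) = f j := by
          rw [Fintype.linearCombination_apply_single, one_smul]
        simp only [sub_smul, Finset.sum_sub_distrib, ite_smul, zero_smul, Finset.sum_ite_eq', Finset.mem_univ,
          if_true, sub_eq_zero]
        rw [← h3, ← h2, Fintype.linearCombination_apply]
        refine Finset.sum_congr rfl fun l _ => ?_
        simp [N, LinearMap.toMatrix'_apply, Fintype.linearCombination_apply]
      have h4 := Fintype.linearIndependent_iff.1 hli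
        (fun l => Ideal.Quotient.mk m (N l j - if l = j then s₁ else 0)) (by
          rw [← map_zero (Submodule.mkQ (m • (⊤ : Submodule A P))), ← h1, map_sum]
          exact Finset.sum_congr rfl fun l _ => rfl) i
      rw [map_sub, sub_eq_zero] at h4
      rw [h4]
      split_ifs <;> simp
    intro h
    rw [← Ideal.Quotient.eq_zero_iff_mem, RingHom.map_det] at h
    have h5 : (Ideal.Quotient.mk m).mapMatrix N = Matrix.diagonal fun _ : Fin n => Ideal.Quotient.mk m s₁ := by
      ext i j; simp [key, Matrix.diagonal]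
    rw [h5, Matrix.det_diagonal, Finset.prod_const] at h
    exact hs₁ (Ideal.Quotient.eq_zero_iff_mem.1 (eq_zero_of_pow_eq_zero h))
  -- the good elements
  have hgood1 : ∀ p, (s₁ * N.det) • p ∈ R := fun p => by
    rw [mul_comm, mul_smul]; exact R.smul_mem _ (hs₁' p)
  have hgood2 : ∀ c, F c = 0 → (s₁ * N.det) • c = 0 := fun c hc => by
    rw [mul_smul, hdetker c hc, smul_zero]
  obtain ⟨e, he⟩ : ∃ e, (decompose 𝒜 (s₁ * N.det) e : A) ∉ m := by
    by_contra hall
    push Not at hall
    have : s₁ * N.det ∈ m := by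
      rw [← DirectSum.sum_support_decompose 𝒜 (s₁ * N.det)]
      exact sum_mem fun i _ => hall i
    rcases (Ideal.IsMaximal.isPrime ‹_›).mem_or_mem this with h | h
    exacts [hs₁ h, hdet h]
  refine ⟨_, ⟨e, SetLike.coe_mem _⟩, he, fun p => ?_, fun c hc => ⟨1, ?_⟩⟩
  · refine ⟨1, ?_⟩
    have : (decompose 𝒜 (s₁ * N.det) e : A) • p ∈ R := by
      induction p using DirectSum.Decomposition.inductionOn ℳ with
      | zero => simp
      | @homogeneous d p =>
        rw [← decompose_smul 𝒜 ℳ _ p.2 e]
        exact component_mem_span 𝒜 ℳ wt f hf (hgood1 _) _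
      | add a b ha hb => rw [smul_add]; exact add_mem ha hb
    obtain ⟨c, hc⟩ := Submodule.mem_span_range_iff_exists_fun A |>.1 this
    exact ⟨c, by rw [pow_one, hc]⟩
  · intro i
    rw [pow_one, ← DirectSum.sum_support_decompose 𝒜 (c i), Finset.mul_sum]
    refine Finset.sum_eq_zero fun b _ => ?_
    -- homogeneous relation in total degree `b + wt i`
    let cd : Fin n → A := fun l => decompose 𝒜 (c l) (b + wt i - wt l)
    have hcd : F cd = 0 := by
      have h := congrArg (fun q => (decompose ℳ q (b + wt i) : P)) hc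
      simp only [decompose_sum, DirectSum.sum_apply, AddSubmonoidClass.coe_finsetSum,
        decompose_zero, DirectSum.zero_apply, ZeroMemClass.coe_zero] at h
      rw [← h, Fintype.linearCombination_apply]
      refine Finset.sum_congr rfl fun l _ => ?_
      conv_rhs => rw [show b + wt i = (b + wt i - wt l) + wt l from (sub_add_cancel _ _).symm]
      exact (decompose_smul 𝒜 ℳ (c l) (hf l) _).symm
    have h := congrFun (hgood2 cd hcd) i
    simp only [Pi.smul_apply, smul_eq_mul, Pi.zero_apply, cd] at h
    rw [add_sub_cancel_right] at h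
    have h6 := congrArg (fun q => (decompose 𝒜 q (e + b) : A)) h
    simp only [decompose_zero, DirectSum.zero_apply, ZeroMemClass.coe_zero] at h6
    rwa [DirectSum.coe_decompose_mul_add_of_right_mem 𝒜 (SetLike.coe_mem _)] at h6

end GrBasis52
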